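import Groth.Agent.H23.TwistAmple
import Mathlib.AlgebraicGeometry.ProjectiveSpectrum.Basic

/-!
# `O(n)` on the `Proj` of a finitely generated graded algebra, `n` divisible by all the degrees
-/

universe u

open CategoryTheory AlgebraicGeometry TopologicalSpace Opposite

set_option backward.isDefEq.respectTransparency false
set_option backward.isDefEq.respectTransparency.types false

namespace Groth.Agent.H9Twist

open Groth.Agent

variable {R A : Type u} [CommRing R] [CommRing A] [Algebra R A]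
  {𝒜 : ℕ → Submodule R A} [GradedAlgebra 𝒜]

theorem isFrame_globalOf {n : ℕ} {g : A} (hg : g ∈ 𝒜 n) :
    InvX.IsFrame (AModX.res (Twist.twist 𝒜 (n : ℤ)) (le_top : Proj.basicOpen 𝒜 g ≤ ⊤)
      (Twist.globalOf 𝒜 ⟨g, hg⟩)) :=
  TwistX.isFrame_res_globalOf _ fun y => y.2

theorem genLocus_globalOf {n : ℕ} {g : A} (hg : g ∈ 𝒜 n)
    (hcov : (⨆ h : 𝒜 n, Proj.basicOpen 𝒜 (h : A)) = ⊤) :
    CohB1.genLocus (Twist.twist 𝒜 (n : ℤ))
      (InvX.ofSect (show Γ(Twist.twist 𝒜 (n : ℤ), ⊤) from Twist.globalOf 𝒜 ⟨g, hg⟩)) =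
      Proj.basicOpen 𝒜 g := by
  refine le_antisymm (fun x hx => ?_)
    (InvX.le_genLocus _ (by rw [InvX.one_ofSect]; exact isFrame_globalOf hg))
  obtain ⟨U, hxU, hU⟩ := InvX.mem_genLocus hx
  rw [InvX.one_ofSect] at hU
  obtain ⟨g', hg'⟩ := Opens.mem_iSup.1 (hcov.ge (trivial : x ∈ (⊤ : (Proj 𝒜).Opens)))
  obtain ⟨r, hr⟩ := hU.exists_coord (inf_le_left : U ⊓ Proj.basicOpen 𝒜 (g' : A) ≤ U)
    (AModX.res (Twist.twist 𝒜 (n : ℤ)) le_top (Twist.globalOf 𝒜 g'))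
  rw [AModX.res_res] at hr
  have h := congrArg (fun q => ((show Twist.sectN (𝒜 := 𝒜) (n : ℤ) (op (U ⊓ Proj.basicOpen 𝒜 (g' : A))) from q).1
    ⟨x, hxU, hg'⟩).1) hr
  have h' : (Localization.mk (g' : A) 1 : Twist.Loc 𝒜 x) =
      ((show Twist.O (𝒜 := 𝒜) (op (U ⊓ Proj.basicOpen 𝒜 (g' : A))) from r).1 ⟨x, hxU, hg'⟩).val *
        Localization.mk g 1 :=
    h.trans (Twist.coe_smul_val (n : ℤ) x _ _)
  have hu : IsUnit (Localization.mk (g' : A) 1 : Twist.Loc 𝒜 x) := by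
    rw [Localization.mk_one_eq_algebraMap]
    exact (IsLocalization.AtPrime.isUnit_to_map_iff _ x.asHomogeneousIdeal.toIdeal _).2 hg'
  rw [h'] at hu
  have hu' := isUnit_of_mul_isUnit_right hu
  rw [Localization.mk_one_eq_algebraMap] at hu'
  exact (IsLocalization.AtPrime.isUnit_to_map_iff _ x.asHomogeneousIdeal.toIdeal _).1 hu'

theorem generatedBy {n : ℕ} (hcov : (⨆ h : 𝒜 n, Proj.basicOpen 𝒜 (h : A)) = ⊤) :
    ProjUP.GeneratedBy (Twist.twist 𝒜 (n : ℤ))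
      (fun b : 𝒜 n => (Twist.globalOf 𝒜 b : ProjUP.Γm (Twist.twist 𝒜 (n : ℤ)))) :=
  ProjUPX.generatedBy_of_frames _ fun x => by
    obtain ⟨g, hg⟩ := Opens.mem_iSup.1 (hcov.ge (trivial : x ∈ (⊤ : (Proj 𝒜).Opens)))
    exact ⟨g, Proj.basicOpen 𝒜 (g : A), hg, isFrame_globalOf g.2⟩

theorem isAmple {n : ℕ} (hn : 0 < n) [CompactSpace (Proj 𝒜)]
    (hcov : (⨆ h : 𝒜 n, Proj.basicOpen 𝒜 (h : A)) = ⊤) :
    CohB1.IsAmple (Twist.twist 𝒜 (n : ℤ)) := by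
  have hmem : ∀ x : Proj 𝒜, ∃ g : 𝒜 n, x ∈ Proj.basicOpen 𝒜 (g : A) := fun x =>
    Opens.mem_iSup.1 (hcov.ge (trivial : x ∈ (⊤ : (Proj 𝒜).Opens)))
  have hL : PicF.IsInvertible (Twist.twist 𝒜 (n : ℤ)) := InvX.isInvertible_of_frames fun x => by
    obtain ⟨g, hg⟩ := hmem x
    exact ⟨_, hg, _, isFrame_globalOf g.2⟩
  refine ⟨hL, inferInstance, fun x => ?_⟩
  obtain ⟨g, hg⟩ := hmem x
  refine ⟨0, InvX.powHom (InvX.ofSect (show Γ(Twist.twist 𝒜 (n : ℤ), ⊤) from Twist.globalOf 𝒜 g)) 1, ?_⟩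
  rw [InvX.genLocus_powHom hL _ 0, genLocus_globalOf g.2 hcov]
  exact ⟨hg, Proj.isAffineOpen_basicOpen 𝒜 (g : A) g.2 hn⟩

variable {s : ℕ} {f : Fin s → A} {deg : Fin s → ℕ}

theorem exists_gen_notMem (hf : ∀ i, f i ∈ 𝒜 (deg i))
    (hgen : Algebra.adjoin R (Set.range f) = ⊤) (x : Proj 𝒜) :
    ∃ i, x ∈ Proj.basicOpen 𝒜 (f i) := by
  refine Opens.mem_iSup.1 ((Proj.iSup_basicOpen_eq_top' 𝒜 f (fun i => ⟨_, hf i⟩) ?_).ge
    (trivial : x ∈ (⊤ : (Proj 𝒜).Opens)))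
  rw [eq_top_iff]
  rintro a -
  have ha : a ∈ Algebra.adjoin R (Set.range f) := hgen ▸ trivial
  induction ha using Algebra.adjoin_induction with
  | mem y hy => exact Algebra.subset_adjoin hy
  | algebraMap r =>
    exact Subalgebra.algebraMap_mem (Algebra.adjoin (𝒜 0) (Set.range f))
      ⟨algebraMap R A r, SetLike.algebraMap_mem_graded 𝒜 r⟩
  | add y z _ _ hy hz => exact add_mem hy hz
  | mul y z _ _ hy hz => exact mul_mem hy hz

theorem compactSpace (hdeg : ∀ i, 0 < deg i) (hf : ∀ i, f i ∈ 𝒜 (deg i))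
    (hgen : Algebra.adjoin R (Set.range f) = ⊤) : CompactSpace (Proj 𝒜) := by
  refine ⟨?_⟩
  have hc := isCompact_iUnion fun i =>
    (Proj.isAffineOpen_basicOpen 𝒜 (f i) (hf i) (hdeg i)).isCompact
  rwa [show (⋃ i, ((Proj.basicOpen 𝒜 (f i)) : Set ↥(Proj 𝒜))) = Set.univ from
    Set.eq_univ_of_forall fun x => Set.mem_iUnion.2 (exists_gen_notMem hf hgen x)] at hc

theorem iSup_basicOpen_mul_lcm (hdeg : ∀ i, 0 < deg i) (hf : ∀ i, f i ∈ 𝒜 (deg i))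
    (hgen : Algebra.adjoin R (Set.range f) = ⊤) (a : ℕ) :
    (⨆ h : 𝒜 (a * Finset.univ.lcm deg), Proj.basicOpen 𝒜 (h : A)) = ⊤ := by
  refine eq_top_iff.2 fun x _ => ?_
  obtain ⟨i, hi⟩ := exists_gen_notMem hf hgen x
  obtain ⟨q, hq⟩ : deg i ∣ a * Finset.univ.lcm deg :=
    dvd_mul_of_dvd_right (Finset.dvd_lcm (Finset.mem_univ i)) a
  have hm : f i ^ q ∈ 𝒜 (a * Finset.univ.lcm deg) := by
    rw [hq, mul_comm]
    simpa using SetLike.pow_mem_graded q (hf i)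
  exact Opens.mem_iSup.2 ⟨⟨_, hm⟩, TwistX.notMem_pow hi q⟩

end Groth.Agent.H9Twist
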