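import Groth.Agent.VeryAmple.Main
import Groth.Agent.H9Twist.Lcm
import Mathlib.AlgebraicGeometry.ProjectiveSpectrum.Proper

/-!
# Embedding a `Proj` into projective space by sections of `O(N)`
-/

set_option linter.style.haveILetI false
set_option backward.isDefEq.respectTransparency false
set_option backward.isDefEq.respectTransparency.types false
set_option maxHeartbeats 1000000

universe u

open CategoryTheory CategoryTheory.Limits AlgebraicGeometry TopologicalSpace Opposite HomogeneousLocalization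

namespace Groth.Agent.H9Twist

open Groth.Agent

variable {R A : Type u} [CommRing R] [CommRing A] [Algebra R A]
  {𝒜 : ℕ → Submodule R A} [GradedAlgebra 𝒜]

theorem appTop_ι_comp_topIso {X Y : Scheme.{u}} (g : X ⟶ Y) (U : X.Opens) :
    (U.ι ≫ g).appTop ≫ U.topIso.hom = g.appLE ⊤ U le_top := by
  simp [Scheme.Hom.appLE, Scheme.Opens.topIso, ← Functor.map_comp]

theorem surjective_morphismRestrict_appTop {X Y : Scheme.{u}} (f : X ⟶ Y) (D : Y.Opens) (W : X.Opens)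
    (h : f ⁻¹ᵁ D = W) (hs : Function.Surjective (f.appLE D W h.ge)) :
    Function.Surjective (f ∣_ D).appTop := by
  subst h
  intro z
  rw [morphismRestrict_appTop]
  obtain ⟨y, hy⟩ := hs ((f ⁻¹ᵁ D).topIso.hom z)
  refine ⟨D.topIso.inv y, (ConcreteCategory.bijective_of_isIso (f ⁻¹ᵁ D).topIso.hom).1 ?_⟩
  rw [← hy]
  simp only [← CommRingCat.comp_apply]
  congr 2
  simp only [Scheme.Hom.appLE, Scheme.Opens.topIso, Category.assoc]
  simp [← Functor.map_comp]
  rw [f.naturality_assoc, ← Functor.map_comp]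
  refine (congrArg (f.app D ≫ ·) ?_).trans (Category.comp_id _)
  exact (congrArg _ (Subsingleton.elim _ (𝟙 _))).trans (X.presheaf.map_id _)

theorem globalOf_eq_smul {N : ℕ} {a t : A} (ha : a ∈ 𝒜 N) (ht : t ∈ 𝒜 N) :
    AModX.res (Twist.twist 𝒜 (N : ℤ)) (le_top : Proj.basicOpen 𝒜 t ≤ ⊤) (Twist.globalOf 𝒜 ⟨a, ha⟩) =
      (Proj.awayToSection 𝒜 t).hom (Away.mk 𝒜 ht 1 a (by rwa [one_smul])) •
        AModX.res (Twist.twist 𝒜 (N : ℤ)) (le_top : Proj.basicOpen 𝒜 t ≤ ⊤)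
          (Twist.globalOf 𝒜 ⟨t, ht⟩) := by
  refine Subtype.ext (funext fun x => Subtype.ext ?_)
  refine Eq.trans ?_ (Twist.coe_smul_val (N : ℤ) x.1 _ _).symm
  erw [ProjectiveSpectrum.Proj.awayToSection_apply]
  rw [Away.val_mk]
  exact ProjUPX.loc_aux _ a t x.2 _

theorem toSpecZero_appLE {f : A} {m : ℕ} (hf : f ∈ 𝒜 m) (hm : 0 < m) (r : R) :
    ((Proj.toSpecZero 𝒜 ≫ Spec.map (CommRingCat.ofHom (algebraMap R (𝒜 0)))).appLE ⊤
        (Proj.basicOpen 𝒜 f) le_top).hom ((Scheme.ΓSpecIso (CommRingCat.of R)).inv r) =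
      (Proj.awayToSection 𝒜 f).hom (fromZeroRingHom 𝒜 _ (algebraMap R (𝒜 0) r)) := by
  let ψ : CommRingCat.of R ⟶ Γ(Proj 𝒜, Proj.basicOpen 𝒜 f) :=
    CommRingCat.ofHom (algebraMap R (𝒜 0)) ≫ CommRingCat.ofHom (fromZeroRingHom 𝒜 _) ≫
      Proj.awayToSection 𝒜 f
  have e : (Proj.basicOpen 𝒜 f).ι ≫ Proj.toSpecZero 𝒜 ≫ Spec.map (CommRingCat.ofHom (algebraMap R (𝒜 0))) =
      (Proj.basicOpen 𝒜 f).toSpecΓ ≫ Spec.map ψ := by
    have h := Proj.awayι_toSpecZero 𝒜 f hf hm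
    rw [Proj.awayι, Category.assoc, Iso.inv_comp_eq, Proj.basicOpenIsoSpec_hom,
      Proj.basicOpenToSpec, Category.assoc] at h
    rw [reassoc_of% h]
    simp only [ψ, Spec.map_comp, Category.assoc]
  have e' := congr(($e).appTop ≫ (Proj.basicOpen 𝒜 f).topIso.hom)
  rw [appTop_ι_comp_topIso, Scheme.Hom.comp_appTop (Proj.basicOpen 𝒜 f).toSpecΓ,
    Scheme.Opens.toSpecΓ_appTop, Category.assoc, Category.assoc, Iso.inv_hom_id, Category.comp_id,
    Scheme.ΓSpecIso_naturality] at e'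
  have e'' : (Proj.toSpecZero 𝒜 ≫ Spec.map (CommRingCat.ofHom (algebraMap R (𝒜 0)))).appLE ⊤
      (Proj.basicOpen 𝒜 f) le_top = (Scheme.ΓSpecIso (CommRingCat.of R)).hom ≫ ψ := e'
  rw [e'']
  show ψ.hom (((Scheme.ΓSpecIso (CommRingCat.of R)).inv ≫ (Scheme.ΓSpecIso (CommRingCat.of R)).hom).hom r) = _
  rw [Iso.inv_hom_id]
  rfl

/-- If the sections `T l` of `O(N)` contain a family whose non-vanishing loci cover, with the ratios
generating the rings of these loci, then they give a closed immersion into projective space. -/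
theorem exists_closedImmersion [Algebra.FiniteType R A]
    (hA0 : Function.Surjective (algebraMap R (𝒜 0))) {N : ℕ} (hN : 0 < N) {n : ℕ}
    (T : Fin (n + 1) → A) (hT : ∀ l, T l ∈ 𝒜 N) (J : Set (Fin (n + 1)))
    (hcov : ∀ x : Proj 𝒜, ∃ j ∈ J, x ∈ Proj.basicOpen 𝒜 (T j))
    (hgen : ∀ j ∈ J, ∀ P : Subring (Away 𝒜 (T j)),
      (∀ r, fromZeroRingHom 𝒜 _ (algebraMap R (𝒜 0) r) ∈ P) →
      (∀ l, Away.mk 𝒜 (hT j) 1 (T l) (by rw [one_smul]; exact hT l) ∈ P) → P = ⊤) :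
    ∃ (n : ℕ) (i : Proj 𝒜 ⟶ CohB1.ProjSpaceOver n (Spec (CommRingCat.of R))), IsClosedImmersion i ∧
      i ≫ pullback.snd (CohB1.ProjSpace.toSpec n (ULift.{u} ℤ)) (specULiftZIsTerminal.from (Spec (CommRingCat.of R))) =
        Proj.toSpecZero 𝒜 ≫ Spec.map (CommRingCat.ofHom (algebraMap R (𝒜 0))) ∧
      Nonempty (Twist.twist 𝒜 (N : ℤ) ≅
        (Scheme.Modules.pullback i).obj (Twist.twistOver n (Spec (CommRingCat.of R)) 1)) := by
  classical
  let S : Scheme.{u} := Spec (CommRingCat.of R)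
  let M := Twist.twist 𝒜 (N : ℤ)
  let f : Proj 𝒜 ⟶ S := Proj.toSpecZero 𝒜 ≫ Spec.map (CommRingCat.ofHom (algebraMap R (𝒜 0)))
  have hcov' : (⨆ h : 𝒜 N, Proj.basicOpen 𝒜 (h : A)) = ⊤ := eq_top_iff.2 fun x _ => by
    obtain ⟨j, -, hj⟩ := hcov x
    exact Opens.mem_iSup.2 ⟨⟨T j, hT j⟩, hj⟩
  have hM : PicF.IsInvertible M := InvX.isInvertible_of_frames fun x => by
    obtain ⟨j, -, hj⟩ := hcov x
    exact ⟨_, hj, _, isFrame_globalOf (hT j)⟩
  let s : Fin (n + 1) → Γ(M, ⊤) := fun l => Twist.globalOf 𝒜 ⟨T l, hT l⟩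
  have hs : ProjUP.GeneratedBy M s := ProjUPX.generatedBy_of_frames _ fun x => by
    obtain ⟨j, -, hj⟩ := hcov x
    exact ⟨j, Proj.basicOpen 𝒜 (T j), hj, isFrame_globalOf (hT j)⟩
  obtain ⟨r, -, τ, hτ⟩ := S3572.result n (specULiftZIsTerminal.from (Proj 𝒜)) M hM s hs
  let π : CohB1.ProjSpaceOver n S ⟶ CohB1.ProjSpace n (ULift.{u} ℤ) :=
    pullback.fst (CohB1.ProjSpace.toSpec n (ULift.{u} ℤ)) (specULiftZIsTerminal.from S)
  let i' : Proj 𝒜 ⟶ CohB1.ProjSpaceOver n S := pullback.lift r f (specULiftZIsTerminal.hom_ext _ _)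
  have hfst : i' ≫ π = r := pullback.lift_fst _ _ _
  have hsnd : i' ≫ CohB1.ProjSpaceOver.toBase n S = f := pullback.lift_snd _ _ _
  let D : J → (CohB1.ProjSpace n (ULift.{u} ℤ)).Opens := fun j =>
    Proj.basicOpen (CohB1.polyGrading n (ULift.{u} ℤ)) (MvPolynomial.X j.1)
  have hpre : ∀ j, r ⁻¹ᵁ D j = Proj.basicOpen 𝒜 (T j.1) := fun j =>
    (AmpleEmbed.preimage_chart r τ _ (hτ j.1)).trans (genLocus_globalOf (hT j.1) hcov')
  let D' : J → (CohB1.ProjSpaceOver n S).Opens := fun j =>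
    π ⁻¹ᵁ D j ⊓ CohB1.ProjSpaceOver.toBase n S ⁻¹ᵁ ⊤
  have hpre' : ∀ j, i' ⁻¹ᵁ D' j = Proj.basicOpen 𝒜 (T j.1) := fun j => by
    show i' ⁻¹ᵁ (π ⁻¹ᵁ D j) ⊓ i' ⁻¹ᵁ (CohB1.ProjSpaceOver.toBase n S ⁻¹ᵁ ⊤) = _
    rw [← Scheme.Hom.comp_preimage, ← Scheme.Hom.comp_preimage, hfst, hsnd, hpre]
    exact inf_eq_left.2 le_top
  haveI hI : IsImmersion i' := by
    refine VeryAmple.isImmersion_of_cover i' D' (fun x => ?_) fun j => ?_
    · obtain ⟨j, hjJ, hj⟩ := hcov x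
      exact ⟨⟨j, hjJ⟩, (hpre' ⟨j, hjJ⟩).ge hj⟩
    haveI : IsAffine (D' j : Scheme) :=
      VeryAmple.isAffineOpen_chart n (isAffineOpen_top S) (Proj.isAffineOpen_basicOpen _ _ (ProjPt.X_mem _) one_pos)
    haveI : IsAffine (i' ⁻¹ᵁ D' j : Scheme) := by
      rw [hpre']; exact Proj.isAffineOpen_basicOpen 𝒜 _ (hT j.1) hN
    refine IsClosedImmersion.of_surjective_of_isAffine _ ?_
    have hsurj : Function.Surjective (i'.appLE (D' j) (Proj.basicOpen 𝒜 (T j.1)) (hpre' j).ge) := by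
      let φ := i'.appLE (D' j) (Proj.basicOpen 𝒜 (T j.1)) (hpre' j).ge
      have htop : φ.hom.range.comap (Proj.awayToSection 𝒜 (T j.1)).hom = ⊤ := by
        refine hgen j.1 j.2 _ (fun c => ?_) fun l => ?_
        · show (Proj.awayToSection 𝒜 (T j.1)).hom _ ∈ φ.hom.range
          rw [← toSpecZero_appLE (hT j.1) hN c]
          refine ⟨(CohB1.ProjSpaceOver.toBase n S).appLE ⊤ (D' j) inf_le_right
            ((Scheme.ΓSpecIso (CommRingCat.of R)).inv c), ?_⟩
          rw [← CommRingCat.comp_apply, Scheme.Hom.appLE_comp_appLE]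
          simp only [hsnd]
          rfl
        · show (Proj.awayToSection 𝒜 (T j.1)).hom _ ∈ φ.hom.range
          refine ⟨π.appLE (D j) (D' j) inf_le_left
            ((Proj.awayToSection (CohB1.polyGrading n (ULift.{u} ℤ)) (MvPolynomial.X j.1)).hom
              (Away.mk (CohB1.polyGrading n (ULift.{u} ℤ)) (ProjPt.X_mem _) 1
                (MvPolynomial.X l) (by rw [one_smul]; exact ProjPt.X_mem _))), ?_⟩
          rw [← CommRingCat.comp_apply, Scheme.Hom.appLE_comp_appLE]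
          simp only [hfst]
          exact AmpleEmbed.ratioOf_eq r τ _ _ (hτ j.1) (hτ l) (hpre j).ge _
            (globalOf_eq_smul (hT l) (hT j.1))
      intro z
      obtain ⟨w, rfl⟩ := (ConcreteCategory.bijective_of_isIso
        (Proj.basicOpenIsoAway 𝒜 (T j.1) (hT j.1) hN).hom).2 z
      have : w ∈ φ.hom.range.comap (Proj.awayToSection 𝒜 (T j.1)).hom := htop ▸ trivial
      exact this
    exact surjective_morphismRestrict_appTop i' (D' j) _ (hpre' j) hsurj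
  haveI : IsScalarTower R (𝒜 0) A := ⟨fun r a b => smul_mul_assoc r (a : A) b⟩
  haveI : Algebra.FiniteType (𝒜 0) A := Algebra.FiniteType.of_restrictScalars_finiteType R (𝒜 0) A
  haveI : IsClosedImmersion (Spec.map (CommRingCat.ofHom (algebraMap R (𝒜 0)))) :=
    IsClosedImmersion.spec_of_surjective _ hA0
  haveI : IsProper (i' ≫ CohB1.ProjSpaceOver.toBase n S) := by
    rw [hsnd]; infer_instance
  haveI : IsSeparated (CohB1.ProjSpaceOver.toBase n S) :=
    MorphismProperty.pullback_snd (P := @IsSeparated) _ _ inferInstance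
  haveI : UniversallyClosed i' := UniversallyClosed.of_comp_of_isSeparated i' (CohB1.ProjSpaceOver.toBase n S)
  haveI : IsClosedImmersion i' :=
    IsClosedImmersion.of_isPreimmersion _ i'.isClosedMap.isClosed_range
  exact ⟨n, i', inferInstance, hsnd, ⟨τ.symm ≪≫ (Scheme.Modules.pullbackCongr hfst.symm).app _ ≪≫
    ((Scheme.Modules.pullbackComp i' π).app _).symm⟩⟩

end Groth.Agent.H9Twist
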