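import Groth.Agent.H9Twist.GenBound
import Mathlib.RingTheory.GradedAlgebra.HomogeneousLocalization

/-!
# Generators of degree zero localizations
-/

universe u

open HomogeneousLocalization

set_option backward.isDefEq.respectTransparency false
set_option backward.isDefEq.respectTransparency.types false

namespace Groth.Agent.H9Twist

variable {R A : Type u} [CommRing R] [CommRing A] [Algebra R A]
  {𝒜 : ℕ → Submodule R A} [GradedAlgebra 𝒜] {s : ℕ} {f : Fin s → A} {deg : Fin s → ℕ}

theorem awayMk_congr {d : ℕ} {g : A} (hg : g ∈ 𝒜 d) {k : ℕ} {a b : A} (h : a = b)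
    (ha : a ∈ 𝒜 (k • d)) (hb : b ∈ 𝒜 (k • d)) : Away.mk 𝒜 hg k a ha = Away.mk 𝒜 hg k b hb := by
  subst h; rfl

theorem awayMk_mul {d : ℕ} {g : A} (hg : g ∈ 𝒜 d) {k l : ℕ} {a b : A}
    (ha : a ∈ 𝒜 (k • d)) (hb : b ∈ 𝒜 (l • d)) (hab : a * b ∈ 𝒜 ((k + l) • d)) :
    Away.mk 𝒜 hg (k + l) (a * b) hab = Away.mk 𝒜 hg k a ha * Away.mk 𝒜 hg l b hb := by
  apply HomogeneousLocalization.val_injective
  rw [HomogeneousLocalization.val_mul, Away.val_mk, Away.val_mk, Away.val_mk, Localization.mk_mul]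
  congr 1
  exact Subtype.ext (pow_add g k l)

theorem awayMk_smul {d : ℕ} {g : A} (hg : g ∈ 𝒜 d) {k : ℕ} {a : A} (r : R)
    (ha : a ∈ 𝒜 (k • d)) :
    Away.mk 𝒜 hg k (r • a) (Submodule.smul_mem _ r ha) =
      fromZeroRingHom 𝒜 _ (algebraMap R (𝒜 0) r) * Away.mk 𝒜 hg k a ha := by
  apply HomogeneousLocalization.val_injective
  rw [HomogeneousLocalization.val_mul, Away.val_mk, Away.val_mk]
  show _ = (HomogeneousLocalization.mk _).val * _
  rw [HomogeneousLocalization.val_mk, Localization.mk_mul]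
  congr 1
  · exact Algebra.smul_def r a
  · exact Subtype.ext (one_mul _).symm

theorem awayMk_add {d : ℕ} {g : A} (hg : g ∈ 𝒜 d) {k : ℕ} {a b : A}
    (ha : a ∈ 𝒜 (k • d)) (hb : b ∈ 𝒜 (k • d)) :
    Away.mk 𝒜 hg k (a + b) (add_mem ha hb) = Away.mk 𝒜 hg k a ha + Away.mk 𝒜 hg k b hb := by
  apply HomogeneousLocalization.val_injective
  rw [HomogeneousLocalization.val_add, Away.val_mk, Away.val_mk, Away.val_mk, Localization.add_mk_self]

theorem awayMk_zero {d : ℕ} {g : A} (hg : g ∈ 𝒜 d) {k : ℕ} :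
    Away.mk 𝒜 hg k 0 (zero_mem _) = 0 := by
  apply HomogeneousLocalization.val_injective
  rw [HomogeneousLocalization.val_zero, Away.val_mk, Localization.mk_zero]

/-- A subring of `(A_g)₀` containing the scalars and all monomial fractions is everything. -/
theorem subring_eq_top (hf : ∀ i, f i ∈ 𝒜 (deg i)) (hgen : Algebra.adjoin R (Set.range f) = ⊤)
    {d : ℕ} {g : A} (hg : g ∈ 𝒜 d) (P : Subring (Away 𝒜 g))
    (hR : ∀ r, fromZeroRingHom 𝒜 _ (algebraMap R (𝒜 0) r) ∈ P)
    (hmon : ∀ (k : ℕ) (e : Fin s → ℕ) (h : ∑ l, e l * deg l = k • d),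
      Away.mk 𝒜 hg k (∏ l, f l ^ e l) (h ▸ prod_pow_mem hf Finset.univ e) ∈ P) : P = ⊤ := by
  refine eq_top_iff.2 fun z _ => ?_
  obtain ⟨k, a, ha, rfl⟩ := Away.mk_surjective 𝒜 hg z
  obtain ⟨N, r, b, hab⟩ := Submodule.mem_span_set'.1 (mem_span_monomials hf hgen ha)
  have hb : ∀ q : Fin N, (b q : A) ∈ 𝒜 (k • d) := fun q => by
    obtain ⟨e, he, hbe⟩ := (b q).2
    rw [hbe]
    exact he ▸ prod_pow_mem hf Finset.univ e
  have key : ∀ S : Finset (Fin N), ∀ h : (∑ q ∈ S, r q • (b q : A)) ∈ 𝒜 (k • d),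
      Away.mk 𝒜 hg k (∑ q ∈ S, r q • (b q : A)) h ∈ P := by
    classical
    intro S
    induction S using Finset.induction_on with
    | empty =>
      intro h
      rw [awayMk_congr hg (Finset.sum_empty) h (zero_mem _), awayMk_zero]
      exact zero_mem _
    | insert q S hq ih =>
      intro h
      have h' : (∑ q' ∈ S, r q' • (b q' : A)) ∈ 𝒜 (k • d) :=
        sum_mem fun q' _ => Submodule.smul_mem _ _ (hb q')
      rw [awayMk_congr hg (Finset.sum_insert hq) h (add_mem (Submodule.smul_mem _ (r q) (hb q)) h'),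
        awayMk_add hg (Submodule.smul_mem _ (r q) (hb q)) h', awayMk_smul hg (r q) (hb q)]
      refine add_mem (mul_mem (hR _) ?_) (ih h')
      obtain ⟨e, he, hbe⟩ := (b q).2
      rw [awayMk_congr hg hbe (hb q) (he ▸ prod_pow_mem hf Finset.univ e)]
      exact hmon k e he
  rw [awayMk_congr hg hab.symm ha (hab.symm ▸ ha)]
  exact key Finset.univ _

theorem algebraMap_zero_surjective (hdeg : ∀ i, 0 < deg i) (hf : ∀ i, f i ∈ 𝒜 (deg i))
    (hgen : Algebra.adjoin R (Set.range f) = ⊤) : Function.Surjective (algebraMap R (𝒜 0)) := by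
  rintro ⟨a, ha⟩
  have h := mem_span_monomials hf hgen ha
  have hle : {b : A | ∃ e : Fin s → ℕ, ∑ l, e l * deg l = 0 ∧ b = ∏ l, f l ^ e l} ⊆ {1} := by
    rintro b ⟨e, he, rfl⟩
    rw [Set.mem_singleton_iff]
    refine Finset.prod_eq_one fun l _ => ?_
    have := (Finset.sum_eq_zero_iff.1 he) l (Finset.mem_univ l)
    rcases mul_eq_zero.1 this with h0 | h0
    · rw [h0, pow_zero]
    · exact absurd h0 (hdeg l).ne'
  obtain ⟨r, hr⟩ := Submodule.mem_span_singleton.1 (Submodule.span_mono hle h)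
  exact ⟨r, Subtype.ext ((Algebra.algebraMap_eq_smul_one r).trans hr)⟩

theorem exists_le_sum_eq {ι : Type*} [Fintype ι] (q : ι → ℕ) :
    ∀ m : ℕ, m ≤ ∑ i, q i → ∃ q' : ι → ℕ, (∀ i, q' i ≤ q i) ∧ ∑ i, q' i = m := by
  classical
  intro m
  induction m with
  | zero => exact fun _ => ⟨fun _ => 0, fun _ => Nat.zero_le _, by simp⟩
  | succ m ih =>
    intro h
    obtain ⟨q', hle, hsum⟩ := ih (Nat.le_of_succ_le h)
    obtain ⟨i, hi⟩ : ∃ i, q' i < q i := by
      by_contra hne
      push Not at hne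
      have := Finset.sum_le_sum fun i (_ : i ∈ Finset.univ) => hne i
      omega
    refine ⟨Function.update q' i (q' i + 1), fun l => ?_, ?_⟩
    · by_cases hl : l = i
      · subst hl; simpa using hi
      · simpa [hl] using hle l
    · rw [Finset.sum_update_of_mem (Finset.mem_univ i)]
      have := Finset.sum_sdiff (Finset.subset_univ {i}) (f := q')
      simp only [Finset.sum_singleton] at this
      omega

/-- A monomial whose degree is a multiple `k + 1` of `N = a L` has a factor of degree exactly `N`,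
provided `a` is at least one less than the number of generators. -/
theorem exists_submonomial (hdeg : ∀ i, 0 < deg i) (a : ℕ) (has : s - 1 ≤ a) (k : ℕ) (e : Fin s → ℕ)
    (he : ∑ l, e l * deg l = (k + 1) * (a * Finset.univ.lcm deg)) :
    ∃ e' : Fin s → ℕ, (∀ l, e' l ≤ e l) ∧ ∑ l, e' l * deg l = a * Finset.univ.lcm deg := by
  classical
  set L := Finset.univ.lcm deg with hL
  have hdvd : ∀ l, deg l ∣ L := fun l => Finset.dvd_lcm (Finset.mem_univ l)
  have hLpos : 0 < L := Nat.pos_of_ne_zero fun h => by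
    obtain ⟨i, -, hi⟩ := Finset.lcm_eq_zero_iff.1 h
    exact (hdeg i).ne' hi
  let p : Fin s → ℕ := fun l => L / deg l
  have hp : ∀ l, p l * deg l = L := fun l => Nat.div_mul_cancel (hdvd l)
  let ρ : Fin s → ℕ := fun l => e l % p l
  let q : Fin s → ℕ := fun l => e l / p l
  have hsplit : ∀ l, e l * deg l = ρ l * deg l + q l * L := fun l => by
    calc e l * deg l = (ρ l + p l * q l) * deg l := by rw [Nat.mod_add_div]
      _ = _ := by rw [← hp l]; ring
  set Rd := ∑ l, ρ l * deg l with hRd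
  have hsum : Rd + (∑ l, q l) * L = (k + 1) * (a * L) := by
    rw [Finset.sum_mul, hRd, ← Finset.sum_add_distrib, ← he]
    exact Finset.sum_congr rfl fun l _ => (hsplit l).symm
  obtain ⟨c, hc⟩ : L ∣ Rd := by
    have h1 : L ∣ Rd + (∑ l, q l) * L := hsum ▸ dvd_mul_of_dvd_right (dvd_mul_left _ _) _
    exact (Nat.dvd_add_left (dvd_mul_left _ _)).1 h1
  have hca : c ≤ a := by
    rcases Nat.eq_zero_or_pos s with hs0 | hs0
    · subst hs0
      have : Rd = 0 := by simp [hRd]
      rcases Nat.mul_eq_zero.1 (hc ▸ this) with h | h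
      · omega
      · omega
    · have hlt : Rd < s * L := by
        have : Rd + s ≤ s * L := by
          have h1 : ∑ l, (ρ l * deg l + 1) ≤ ∑ _l : Fin s, L := Finset.sum_le_sum fun l _ => by
            have hp0 : 0 < p l := Nat.pos_of_ne_zero fun h => by
              have := hp l; rw [h, zero_mul] at this; omega
            have h1 : ρ l + 1 ≤ p l := Nat.mod_lt _ hp0
            have h2 := Nat.mul_le_mul_right (deg l) h1
            rw [add_mul, one_mul, hp] at h2
            have := hdeg l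
            omega
          simpa [Finset.sum_add_distrib] using h1
        omega
      rw [hc, mul_comm s L] at hlt
      have := Nat.lt_of_mul_lt_mul_left hlt
      omega
  have hQ : c + ∑ l, q l = (k + 1) * a := by
    have h1 : L * (c + ∑ l, q l) = L * ((k + 1) * a) := by
      rw [mul_add, ← hc, mul_comm L (∑ l, q l), hsum]; ring
    exact Nat.eq_of_mul_eq_mul_left hLpos h1
  have hkey : (k + 1) * a = k * a + a := by ring
  obtain ⟨q', hq', hq'sum⟩ := exists_le_sum_eq q (a - c) (by omega)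
  refine ⟨fun l => ρ l + p l * q' l, fun l => ?_, ?_⟩
  · calc ρ l + p l * q' l ≤ ρ l + p l * q l :=
          Nat.add_le_add_left (Nat.mul_le_mul_left _ (hq' l)) _
      _ = e l := Nat.mod_add_div _ _
  · calc ∑ l, (ρ l + p l * q' l) * deg l = Rd + (∑ l, q' l) * L := by
          rw [Finset.sum_mul, hRd, ← Finset.sum_add_distrib]
          exact Finset.sum_congr rfl fun l _ => by rw [← hp l]; ring
      _ = (c + (a - c)) * L := by rw [hq'sum, hc]; ring
      _ = a * L := by rw [Nat.add_sub_cancel' hca]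

end Groth.Agent.H9Twist
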