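import Groth.Agent.H9Twist.Lcm
import Groth.Agent.QCoh.Stalk
import Mathlib.RingTheory.GradedAlgebra.Basic

/-!
# `O(n)` is generated by global sections for large `n`
-/

universe u

open CategoryTheory AlgebraicGeometry TopologicalSpace Opposite

set_option backward.isDefEq.respectTransparency false
set_option backward.isDefEq.respectTransparency.types false

namespace Groth.Agent.H9Twist

open Groth.Agent

variable {R A : Type u} [CommRing R] [CommRing A] [Algebra R A]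
  {𝒜 : ℕ → Submodule R A} [GradedAlgebra 𝒜] {s : ℕ} {f : Fin s → A} {deg : Fin s → ℕ}

theorem prod_pow_mem (hf : ∀ i, f i ∈ 𝒜 (deg i)) (S : Finset (Fin s)) (e : Fin s → ℕ) :
    (∏ l ∈ S, f l ^ e l) ∈ 𝒜 (∑ l ∈ S, e l * deg l) := by
  classical
  induction S using Finset.induction_on with
  | empty => simpa using SetLike.GradedOne.one_mem
  | insert a S ha ih =>
    rw [Finset.prod_insert ha, Finset.sum_insert ha]
    exact SetLike.mul_mem_graded (by simpa using SetLike.pow_mem_graded (e a) (hf a)) ih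

theorem mem_span_monomials (hf : ∀ i, f i ∈ 𝒜 (deg i)) (hgen : Algebra.adjoin R (Set.range f) = ⊤)
    {i : ℕ} {a : A} (ha : a ∈ 𝒜 i) :
    a ∈ Submodule.span R
      {b : A | ∃ e : Fin s → ℕ, ∑ l, e l * deg l = i ∧ b = ∏ l, f l ^ e l} := by
  classical
  have h1 : a ∈ Submodule.span R (Submonoid.closure (Set.range f) : Set A) := by
    rw [← Algebra.adjoin_eq_span, hgen]
    trivial
  have hproj : GradedAlgebra.proj 𝒜 i a = a := DirectSum.decompose_of_mem_same 𝒜 ha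
  rw [← hproj]
  refine Submodule.span_induction (p := fun b _ => GradedAlgebra.proj 𝒜 i b ∈ _) ?_ ?_ ?_ ?_ h1
  · intro b hb
    obtain ⟨e, rfl⟩ : ∃ e : Fin s → ℕ, b = ∏ l, f l ^ e l := by
      induction hb using Submonoid.closure_induction with
      | mem y hy =>
        obtain ⟨l, rfl⟩ := hy
        exact ⟨fun l' => if l' = l then 1 else 0, by simp [pow_ite]⟩
      | one => exact ⟨0, by simp⟩
      | mul y z _ _ hy hz =>
        obtain ⟨e, rfl⟩ := hy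
        obtain ⟨e', rfl⟩ := hz
        exact ⟨e + e', by simp [pow_add, Finset.prod_mul_distrib]⟩
    have hm := prod_pow_mem hf Finset.univ e
    by_cases h : ∑ l, e l * deg l = i
    · rw [show GradedAlgebra.proj 𝒜 i (∏ l, f l ^ e l) = ∏ l, f l ^ e l from
        DirectSum.decompose_of_mem_same 𝒜 (h ▸ hm)]
      exact Submodule.subset_span ⟨e, h, rfl⟩
    · rw [show GradedAlgebra.proj 𝒜 i (∏ l, f l ^ e l) = 0 from
        DirectSum.decompose_of_mem_ne 𝒜 hm h]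
      exact zero_mem _
  · simp
  · intro y z _ _ hy hz; rw [map_add]; exact add_mem hy hz
  · intro r y _ hy; rw [map_smul]; exact Submodule.smul_mem _ r hy

/-- The section `a / t`. -/
noncomputable def fracOn {n : ℤ} {i j : ℕ} {t : A} (ht : t ∈ 𝒜 j) (h : (i : ℤ) = j + n)
    {V : Opens (ProjectiveSpectrum.top 𝒜)} (nin : ∀ y : V, t ∉ y.1.asHomogeneousIdeal)
    (a : 𝒜 i) : Twist.sectN (𝒜 := 𝒜) n (op V) :=
  ⟨fun y => ⟨Localization.mk a.1 ⟨t, nin y⟩,
    Submodule.subset_span ⟨i, j, a, ⟨t, ht⟩, nin y, h, rfl⟩⟩,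
   fun y => ⟨V, y.2, 𝟙 _, i, j, a, ⟨t, ht⟩, nin, Or.inl h, fun _ => rfl⟩⟩

theorem fracOn_add {n : ℤ} {i j : ℕ} {t : A} (ht : t ∈ 𝒜 j) (h : (i : ℤ) = j + n)
    {V : Opens (ProjectiveSpectrum.top 𝒜)} (nin : ∀ y : V, t ∉ y.1.asHomogeneousIdeal)
    (a b : 𝒜 i) : fracOn ht h nin (a + b) = fracOn ht h nin a + fracOn ht h nin b := by
  refine Subtype.ext (funext fun y => Subtype.ext ?_)
  show Localization.mk (a.1 + b.1) _ = Localization.mk a.1 _ + Localization.mk b.1 _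
  rw [Localization.add_mk_self]

theorem fracOn_zero {n : ℤ} {i j : ℕ} {t : A} (ht : t ∈ 𝒜 j) (h : (i : ℤ) = j + n)
    {V : Opens (ProjectiveSpectrum.top 𝒜)} (nin : ∀ y : V, t ∉ y.1.asHomogeneousIdeal) :
    fracOn ht h nin 0 = 0 := by
  refine Subtype.ext (funext fun y => Subtype.ext ?_)
  show Localization.mk (0 : A) _ = 0
  rw [Localization.mk_zero]

/-- A fraction of degree zero as a function. -/
noncomputable def degZero {e : ℕ} {c t : A} (hc : c ∈ 𝒜 e) (ht : t ∈ 𝒜 e)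
    {V : Opens (ProjectiveSpectrum.top 𝒜)} (nin : ∀ y : V, t ∉ y.1.asHomogeneousIdeal) :
    Twist.O (𝒜 := 𝒜) (op V) :=
  ⟨fun y => HomogeneousLocalization.mk ⟨e, ⟨c, hc⟩, ⟨t, ht⟩, nin y⟩,
   fun y => ⟨V, y.2, 𝟙 _, e, ⟨c, hc⟩, ⟨t, ht⟩, nin, fun _ => rfl⟩⟩

theorem smul_globalOf {n e j i : ℕ} {c t u a : A} (hc : c ∈ 𝒜 e) (ht : t ∈ 𝒜 e) (hu : u ∈ 𝒜 j)
    (h : (i : ℤ) = j + n) (ha : a ∈ 𝒜 i) (b : 𝒜 n)
    {V : Opens (ProjectiveSpectrum.top 𝒜)} (nin : ∀ y : V, t ∉ y.1.asHomogeneousIdeal)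
    (nin' : ∀ y : V, u ∉ y.1.asHomogeneousIdeal) (heq : u * (c * b.1) = t * a) :
    fracOn hu h nin' ⟨a, ha⟩ = degZero hc ht nin •
      Twist.resN (n : ℤ) (homOfLE (le_top : V ≤ ⊤)).op (Twist.globalOf 𝒜 b) := by
  refine Subtype.ext (funext fun y => Subtype.ext ?_)
  refine Eq.trans ?_ (Twist.coe_smul_val (n : ℤ) y.1 _ _).symm
  show Localization.mk a _ =
    (HomogeneousLocalization.mk (x := y.1.asHomogeneousIdeal.toIdeal.primeCompl)
      ⟨e, ⟨c, hc⟩, ⟨t, ht⟩, nin y⟩).val * Localization.mk b.1 _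
  rw [HomogeneousLocalization.val_mk, Localization.mk_mul, Localization.mk_eq_mk_iff,
    Localization.r_iff_exists]
  refine ⟨1, ?_⟩
  simp only [OneMemClass.coe_one, one_mul, Submonoid.coe_mul, mul_one]
  exact heq.symm

theorem generatedBy_of_ge (hdeg : ∀ i, 0 < deg i) (hf : ∀ i, f i ∈ 𝒜 (deg i))
    (hgen : Algebra.adjoin R (Set.range f) = ⊤) (n : ℕ)
    (hn : (s - 1) * (Finset.univ.lcm deg - 1) ≤ n) :
    ProjUP.GeneratedBy (Twist.twist 𝒜 (n : ℤ))
      (fun b : 𝒜 n => (Twist.globalOf 𝒜 b : ProjUP.Γm (Twist.twist 𝒜 (n : ℤ)))) := by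
  classical
  intro x
  obtain ⟨i₀, hi₀⟩ := exists_gen_notMem hf hgen x
  set L := Finset.univ.lcm deg with hL
  have hdvd : ∀ l, deg l ∣ L := fun l => Finset.dvd_lcm (Finset.mem_univ l)
  have hLpos : 0 < L := Nat.pos_of_ne_zero fun h => by
    obtain ⟨i, -, hi⟩ := Finset.lcm_eq_zero_iff.1 h
    exact (hdeg i).ne' hi
  refine eq_top_iff.2 fun m _ => ?_
  obtain ⟨W, hxW, σ, rfl⟩ := TopCat.Presheaf.exists_germ_eq _ m
  obtain ⟨V, hxV, iV, i, j, ⟨a, ha⟩, ⟨t, ht⟩, nin, hij, w⟩ :=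
    (show Twist.sectN (𝒜 := 𝒜) (n : ℤ) (op W) from σ).2 ⟨x, hxW⟩
  let V' : (Proj 𝒜).Opens := V ⊓ Proj.basicOpen 𝒜 (f i₀)
  have hxV' : x ∈ V' := ⟨hxV, hi₀⟩
  have hVW : V' ≤ W := inf_le_left.trans (leOfHom iV)
  rcases hij with hij | hij
  swap
  · have h0 : AModX.res (Twist.twist 𝒜 (n : ℤ)) hVW σ = 0 := by
      refine Subtype.ext (funext fun y => Subtype.ext ?_)
      refine (w ⟨y.1, y.2.1⟩).trans ?_
      show Localization.mk a _ = 0
      rw [show a = 0 from hij, Localization.mk_zero]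
    rw [← (Twist.twist 𝒜 (n : ℤ)).presheaf.germ_res_apply (homOfLE hVW) x hxV' σ]
    rw [show AModX.res (Twist.twist 𝒜 (n : ℤ)) hVW σ = (Twist.twist 𝒜 (n : ℤ)).presheaf.map (homOfLE hVW).op σ from rfl] at h0
    rw [h0, map_zero]
    exact zero_mem _
  -- replace the denominator by one of degree divisible by all degrees
  have hij' : (i : ℤ) = j + n := hij
  have ht' : t ^ L ∈ 𝒜 (L * j) := by simpa using SetLike.pow_mem_graded L ht
  have hdeg' : (((L - 1) * j + i : ℕ) : ℤ) = ((L * j : ℕ) : ℤ) + n := by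
    obtain ⟨L', hL'⟩ : ∃ L', L = L' + 1 := ⟨L - 1, by omega⟩
    rw [hL', Nat.add_sub_cancel]
    push_cast
    linarith
  have ha' : t ^ (L - 1) * a ∈ 𝒜 ((L - 1) * j + i) :=
    SetLike.mul_mem_graded (by simpa using SetLike.pow_mem_graded (L - 1) ht) ha
  have nin' : ∀ y : V', t ^ L ∉ y.1.asHomogeneousIdeal := fun y =>
    TwistX.notMem_pow (nin ⟨y.1, y.2.1⟩) L
  let P : 𝒜 ((L - 1) * j + i) → Prop := fun c =>
    ((Twist.twist 𝒜 (n : ℤ)).presheaf.germ V' x hxV').hom (fracOn ht' hdeg' nin' c) ∈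
      Submodule.span ((Proj 𝒜).presheaf.stalk x) (Set.range fun b : 𝒜 n =>
        ((Twist.twist 𝒜 (n : ℤ)).presheaf.germ ⊤ x trivial).hom
          (Twist.globalOf 𝒜 b : ProjUP.Γm (Twist.twist 𝒜 (n : ℤ))))
  have hres : ((Twist.twist 𝒜 (n : ℤ)).presheaf.germ W x hxW).hom σ =
      ((Twist.twist 𝒜 (n : ℤ)).presheaf.germ V' x hxV').hom (fracOn ht' hdeg' nin' ⟨_, ha'⟩) := by
    refine ((Twist.twist 𝒜 (n : ℤ)).presheaf.germ_res_apply (homOfLE hVW) x hxV' σ).symm.trans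
      (congrArg ((Twist.twist 𝒜 (n : ℤ)).presheaf.germ V' x hxV').hom ?_)
    refine Subtype.ext (funext fun y => Subtype.ext ?_)
    refine (w ⟨y.1, y.2.1⟩).trans ?_
    show Localization.mk a _ = Localization.mk (t ^ (L - 1) * a) _
    rw [Localization.mk_eq_mk_iff, Localization.r_iff_exists]
    refine ⟨1, ?_⟩
    simp only [OneMemClass.coe_one, one_mul]
    rw [show t ^ L = t ^ (L - 1) * t by rw [← pow_succ, Nat.sub_add_cancel hLpos]]
    ring
  suffices hP : ∀ c, P c by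
    show ((Twist.twist 𝒜 (n : ℤ)).presheaf.germ W x hxW).hom σ ∈ _
    rw [hres]; exact hP _
  intro c
  have hspan := mem_span_monomials hf hgen c.2
  suffices hQ : ∀ b, b ∈ Submodule.span R
      {b : A | ∃ e : Fin s → ℕ, ∑ l, e l * deg l = (L - 1) * j + i ∧ b = ∏ l, f l ^ e l} →
      ∀ hb : b ∈ 𝒜 ((L - 1) * j + i), P ⟨b, hb⟩ from hQ c.1 hspan c.2
  intro b hb
  rw [Submodule.mem_span_set'] at hb
  obtain ⟨N, r, g, rfl⟩ := hb
  intro hb
  have hmem : ∀ q : Fin N, r q • (g q : A) ∈ 𝒜 ((L - 1) * j + i) := fun q => by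
    obtain ⟨e, he, hge⟩ := (g q).2
    rw [hge]
    exact Submodule.smul_mem _ _ (he ▸ prod_pow_mem hf Finset.univ e)
  rw [show (⟨∑ q, r q • (g q : A), hb⟩ : 𝒜 ((L - 1) * j + i)) = ∑ q, ⟨_, hmem q⟩ from
    Subtype.ext (by simp)]
  have Padd : ∀ c d, P c → P d → P (c + d) := fun c d hc hd => by
    show ((Twist.twist 𝒜 (n : ℤ)).presheaf.germ V' x hxV').hom _ ∈ _
    rw [fracOn_add]
    exact (map_add ((Twist.twist 𝒜 (n : ℤ)).presheaf.germ V' x hxV').hom _ _).symm ▸ add_mem hc hd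
  have Pzero : P 0 := by
    show ((Twist.twist 𝒜 (n : ℤ)).presheaf.germ V' x hxV').hom _ ∈ _
    rw [fracOn_zero]
    exact (map_zero ((Twist.twist 𝒜 (n : ℤ)).presheaf.germ V' x hxV').hom).symm ▸ zero_mem _
  refine Finset.sum_induction _ P Padd Pzero fun q _ => ?_
  obtain ⟨e, he, hge⟩ := (g q).2
  -- split the monomial
  let p : Fin s → ℕ := fun l => L / deg l
  let ρ : Fin s → ℕ := fun l => e l % p l
  let S := (Finset.univ : Finset (Fin s)).erase i₀
  have hρ : ∀ l, ρ l * deg l ≤ L - 1 := fun l => by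
    have hp : p l * deg l = L := Nat.div_mul_cancel (hdvd l)
    have hp0 : 0 < p l := Nat.pos_of_ne_zero fun h => by simp [h] at hp; omega
    have h1 : ρ l + 1 ≤ p l := Nat.mod_lt _ hp0
    have h2 := Nat.mul_le_mul_right (deg l) h1
    rw [add_mul, one_mul, hp] at h2
    have := hdeg l
    omega
  have hRn : ∑ l ∈ S, ρ l * deg l ≤ n := by
    refine le_trans ((Finset.sum_le_card_nsmul S _ _ fun l _ => hρ l).trans ?_) hn
    simp [S, Finset.card_erase_of_mem]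
  have hsum : ∑ l ∈ S, e l * deg l + e i₀ * deg i₀ = (L - 1) * j + i := by
    rw [Finset.sum_erase_add _ _ (Finset.mem_univ i₀), he]
  have hsplit : ∀ l, e l * deg l = (e l - ρ l) * deg l + ρ l * deg l := fun l => by
    rw [← add_mul, Nat.sub_add_cancel (Nat.mod_le _ _)]
  have hS : ∑ l ∈ S, e l * deg l = ∑ l ∈ S, (e l - ρ l) * deg l + ∑ l ∈ S, ρ l * deg l := by
    rw [← Finset.sum_add_distrib]; exact Finset.sum_congr rfl fun l _ => hsplit l
  have hdvdQ : deg i₀ ∣ ∑ l ∈ S, (e l - ρ l) * deg l := Finset.dvd_sum fun l _ => by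
    have : (e l - ρ l) * deg l = (e l / p l) * L := by
      rw [show e l - ρ l = p l * (e l / p l) by
        have := Nat.mod_add_div (e l) (p l); simp only [ρ]; omega]
      rw [show L = p l * deg l from (Nat.div_mul_cancel (hdvd l)).symm]
      ring
    rw [this]
    exact dvd_mul_of_dvd_right (hdvd i₀) _
  have hD : (((L - 1) * j + i : ℕ) : ℤ) = ((L * j : ℕ) : ℤ) + n := hdeg'
  have hD' : (L - 1) * j + i = L * j + n := by exact_mod_cast hD
  have hdiv : deg i₀ ∣ n - ∑ l ∈ S, ρ l * deg l := by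
    have h1 : deg i₀ ∣ ∑ l ∈ S, (e l - ρ l) * deg l + e i₀ * deg i₀ :=
      dvd_add hdvdQ (dvd_mul_left _ _)
    have h2 : ∑ l ∈ S, (e l - ρ l) * deg l + e i₀ * deg i₀ =
        L * j + (n - ∑ l ∈ S, ρ l * deg l) := by omega
    rw [h2] at h1
    exact (Nat.dvd_add_right (dvd_mul_of_dvd_left (hdvd i₀) j)).1 h1
  obtain ⟨k, hk⟩ := hdiv
  let num := (∏ l ∈ S, f l ^ (e l - ρ l)) * f i₀ ^ e i₀
  let den := t ^ L * f i₀ ^ k
  have hnum : num ∈ 𝒜 (∑ l ∈ S, (e l - ρ l) * deg l + e i₀ * deg i₀) :=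
    SetLike.mul_mem_graded (prod_pow_mem hf S _) (by simpa using SetLike.pow_mem_graded (e i₀) (hf i₀))
  have hden : den ∈ 𝒜 (∑ l ∈ S, (e l - ρ l) * deg l + e i₀ * deg i₀) := by
    rw [show ∑ l ∈ S, (e l - ρ l) * deg l + e i₀ * deg i₀ = L * j + k * deg i₀ by
      rw [mul_comm k]; omega]
    exact SetLike.mul_mem_graded ht' (by simpa using SetLike.pow_mem_graded k (hf i₀))
  have hb' : r q • ((∏ l ∈ S, f l ^ ρ l) * f i₀ ^ k) ∈ 𝒜 n := by
    refine Submodule.smul_mem _ _ ?_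
    rw [show n = ∑ l ∈ S, ρ l * deg l + k * deg i₀ by rw [mul_comm k]; omega]
    exact SetLike.mul_mem_graded (prod_pow_mem hf S _) (by simpa using SetLike.pow_mem_graded k (hf i₀))
  have nin'' : ∀ y : V', den ∉ y.1.asHomogeneousIdeal := fun y =>
    TwistX.mul_notMem (nin' y) (TwistX.notMem_pow y.2.2 k)
  have key := smul_globalOf hnum hden ht' hdeg' (hmem q) ⟨_, hb'⟩ nin'' nin' (by
    show t ^ L * (num * (r q • ((∏ l ∈ S, f l ^ ρ l) * f i₀ ^ k))) = den * (r q • (g q : A))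
    have hprod : (∏ l ∈ S, f l ^ (e l - ρ l)) * (∏ l ∈ S, f l ^ ρ l) * f i₀ ^ e i₀ = (g q : A) := by
      rw [hge, ← Finset.prod_erase_mul _ _ (Finset.mem_univ i₀), ← Finset.prod_mul_distrib]
      congr 1
      refine Finset.prod_congr rfl fun l _ => ?_
      rw [← pow_add, Nat.sub_add_cancel (Nat.mod_le _ _)]
    simp only [num, den, Algebra.smul_def, ← hprod]
    ring)
  show ((Twist.twist 𝒜 (n : ℤ)).presheaf.germ V' x hxV').hom _ ∈ _
  rw [key]
  refine (QCoh.germ_smul' (Twist.twist 𝒜 (n : ℤ)) hxV' (degZero hnum hden nin'')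
    (Twist.resN (n : ℤ) (homOfLE (le_top : V' ≤ ⊤)).op (Twist.globalOf 𝒜 ⟨_, hb'⟩))).symm ▸ ?_
  refine Submodule.smul_mem _ _ (Submodule.subset_span ⟨⟨_, hb'⟩, ?_⟩)
  exact ((Twist.twist 𝒜 (n : ℤ)).presheaf.germ_res_apply (homOfLE (le_top : V' ≤ ⊤)) x hxV' _).symm

end Groth.Agent.H9Twist
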