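import Groth.Agent.TwistX.Global
import Groth.Agent.PnCoh.Finite.TwistTensor
import Groth.Agent.H9Twist.Lcm

/-!
# `O(m) ⊗ O(d) ≅ O(m + d)` when `O(m)` has frames given by fractions
-/

universe u

open CategoryTheory CategoryTheory.Limits AlgebraicGeometry TopologicalSpace Opposite MonoidalCategory
open Groth.Agent.KFlatLib Groth.Agent.PnCoh Groth.Agent.PnCoh.Finite

set_option backward.isDefEq.respectTransparency false
set_option backward.isDefEq.respectTransparency.types false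

namespace Groth.Agent.H9Twist

variable {R A : Type u} [CommRing R] [CommRing A] [Algebra R A]
  {𝒜 : ℕ → Submodule R A} [GradedAlgebra 𝒜]

/-- Transport of sections along an equality of degrees. -/
def castSect {a b : ℤ} (e : a = b) {U : (Opens (ProjectiveSpectrum.top 𝒜))ᵒᵖ}
    (s : Twist.sectN (𝒜 := 𝒜) a U) : Twist.sectN (𝒜 := 𝒜) b U := e ▸ s

theorem castSect_apply {a b : ℤ} (e : a = b) {U : (Opens (ProjectiveSpectrum.top 𝒜))ᵒᵖ}
    (s : Twist.sectN (𝒜 := 𝒜) a U) (x : U.unop) : ((castSect e s).1 x).1 = (s.1 x).1 := by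
  subst e
  rfl

/-- The inverse fraction. -/
def invFrac {m : ℤ} {U : Opens (ProjectiveSpectrum.top 𝒜)} (φ : TwistX.UnitFrac (𝒜 := 𝒜) m U) :
    TwistX.UnitFrac (𝒜 := 𝒜) (-m) U where
  i := φ.j
  j := φ.i
  num := φ.den
  den := φ.num
  num_mem := φ.den_mem
  den_mem := φ.num_mem
  deg := by have := φ.deg; omega
  num_ne := φ.den_ne
  den_ne := φ.num_ne

theorem mul_invFrac {m : ℤ} {U : Opens (ProjectiveSpectrum.top 𝒜)}
    (φ : TwistX.UnitFrac (𝒜 := 𝒜) m U) (x : U) :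
    ((TwistX.fracSect φ).1 x).1 * ((TwistX.fracSect (invFrac φ)).1 x).1 = 1 := by
  show Localization.mk φ.num ⟨φ.den, φ.den_ne x⟩ * Localization.mk φ.den ⟨φ.num, φ.num_ne x⟩ = 1
  rw [Localization.mk_mul, ← Localization.mk_one, Localization.mk_eq_mk_iff, Localization.r_iff_exists]
  exact ⟨1, by simp [mul_comm]⟩

/-- Multiplication by an invertible fraction is bijective on sections. -/
theorem mulSect_bijective {m : ℤ} {U : Opens (ProjectiveSpectrum.top 𝒜)}
    (φ : TwistX.UnitFrac (𝒜 := 𝒜) m U) (d : ℤ) :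
    Function.Bijective (fun s : Twist.sectN (𝒜 := 𝒜) d (op U) => mulSect m d (TwistX.fracSect φ) s) := by
  refine ⟨fun s s' h => ?_, fun t => ?_⟩
  · refine Subtype.ext (funext fun x => Subtype.ext ?_)
    have h' : ((TwistX.fracSect φ).1 x).1 * (s.1 x).1 = ((TwistX.fracSect φ).1 x).1 * (s'.1 x).1 :=
      congrArg (fun g => (g.1 x).1) h
    exact (IsUnit.of_mul_eq_one _ (mul_invFrac φ x)).mul_right_inj.1 h'
  · refine ⟨castSect (by omega : -m + (m + d) = d) (mulSect (-m) (m + d) (TwistX.fracSect (invFrac φ)) t), ?_⟩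
    refine Subtype.ext (funext fun x => Subtype.ext ?_)
    show ((TwistX.fracSect φ).1 x).1 * _ = (t.1 x).1
    rw [castSect_apply]
    show ((TwistX.fracSect φ).1 x).1 * (((TwistX.fracSect (invFrac φ)).1 x).1 * (t.1 x).1) = (t.1 x).1
    rw [← mul_assoc, mul_invFrac, one_mul]

variable {m : ℤ} {U : (Proj 𝒜).Opens} (φ : TwistX.UnitFrac (𝒜 := 𝒜) m U) {x : (Proj 𝒜)} (hx : x ∈ U)

/-- The generator of the stalk of `O(m)`. -/
noncomputable def fracGen : stalkMod x (DCoh.toP.obj (Twist.twist 𝒜 m)) :=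
  germP (DCoh.toP.obj (Twist.twist 𝒜 m)) U hx (TwistX.fracSect φ)

theorem fracGen_eq (W : (Proj 𝒜).Opens) (hW : W ≤ U) (hxW : x ∈ W) :
    fracGen φ hx =
      germP (DCoh.toP.obj (Twist.twist 𝒜 m)) W hxW (TwistX.fracSect (φ.res hW)) :=
  (germP_res (P := DCoh.toP.obj (Twist.twist 𝒜 m)) (homOfLE hW) hxW _).symm

theorem fracGen_bijective :
    Function.Bijective (LinearMap.toSpanSingleton ((Proj 𝒜).presheaf.stalk x) _ (fracGen φ hx)) := by
  refine ⟨(injective_iff_map_eq_zero _).2 fun r hr => ?_, fun n => ?_⟩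
  · obtain ⟨W₀, hxW₀, c₀, rfl⟩ := (Proj 𝒜).presheaf.exists_germ_eq r
    rw [LinearMap.toSpanSingleton_apply] at hr
    let W := W₀ ⊓ U
    have hW : W ≤ U := inf_le_right
    have hxW : x ∈ W := ⟨hxW₀, hx⟩
    let i : W ⟶ W₀ := homOfLE inf_le_left
    rw [← (Proj 𝒜).presheaf.germ_res_apply i x hxW, fracGen_eq φ hx W hW hxW, ← germP_smul] at hr
    obtain ⟨W', hxW', j, j', hjj⟩ := TopCat.Presheaf.germ_eq (C := AddCommGrpCat.{u})
      (DCoh.toP.obj (Twist.twist 𝒜 m)).presheaf x hxW hxW _ 0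
      (hr.trans (map_zero (germP (DCoh.toP.obj (Twist.twist 𝒜 m)) W hxW)).symm)
    have key : TwistX.trivMap (φ.res (j.le.trans hW))
        ((Proj 𝒜).presheaf.map j.op ((Proj 𝒜).presheaf.map i.op c₀)) = 0 :=
      hjj.trans (map_zero _)
    rw [← (Proj 𝒜).presheaf.germ_res_apply i x hxW,
      ← (Proj 𝒜).presheaf.germ_res_apply j x hxW']
    have := (TwistX.trivMap_bijective (φ.res (j.le.trans hW))).1 (key.trans (map_zero _).symm)
    exact (congrArg _ this).trans (map_zero _)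
  · obtain ⟨W₀, hxW₀, s₀, rfl⟩ := exists_germP n
    let W := W₀ ⊓ U
    have hW : W ≤ U := inf_le_right
    have hxW : x ∈ W := ⟨hxW₀, hx⟩
    let i : W ⟶ W₀ := homOfLE inf_le_left
    obtain ⟨c, hc⟩ := (TwistX.trivMap_bijective (φ.res hW)).2
      (res (DCoh.toP.obj (Twist.twist 𝒜 m)) i s₀)
    refine ⟨(Proj 𝒜).presheaf.germ W x hxW c, ?_⟩
    rw [LinearMap.toSpanSingleton_apply, fracGen_eq φ hx W hW hxW, ← germP_smul,
      ← germP_res i hxW s₀, ← hc]
    rfl

include φ hx in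
theorem isIso_stalk_mulPre' (d : ℤ) : IsIso ((stalkP x).map (mulPre (𝒜 := 𝒜) m d)) := by
  rw [ConcreteCategory.isIso_iff_bijective]
  let P := DCoh.toP.obj (Twist.twist 𝒜 m)
  let Q := DCoh.toP.obj (Twist.twist 𝒜 d)
  let L : (stalkMod x (P ⊗ Q) : Type u)
      →ₗ[(Proj 𝒜).presheaf.stalk x] (stalkMod x (DCoh.toP.obj (Twist.twist 𝒜 (m + d))) : Type u) :=
    ((stalkP x).map (mulPre m d)).hom
  let ea := LinearEquiv.ofBijective _ (fracGen_bijective φ hx)
  let E : (stalkMod x Q : Type u) ≃ₗ[(Proj 𝒜).presheaf.stalk x] (stalkMod x (P ⊗ Q) : Type u) :=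
    ((TensorProduct.lid _ _).symm.trans
      (TensorProduct.congr ea (LinearEquiv.refl _ _))).trans (tensorStalkEquiv P Q)
  have key : ∀ (W : (Proj 𝒜).Opens) (hW : W ≤ U) (hxW : x ∈ W)
      (s : Twist.sectN (𝒜 := 𝒜) d (op W)),
      L (E (germP Q W hxW s)) = germP (DCoh.toP.obj (Twist.twist 𝒜 (m + d))) W hxW
        (mulSect m d (TwistX.fracSect (φ.res hW)) s) := by
    intro W hW hxW s
    show L (tensorStalkEquiv P Q ((TensorProduct.congr ea (LinearEquiv.refl _ _))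
      ((TensorProduct.lid _ _).symm (germP Q W hxW s)))) = _
    rw [TensorProduct.lid_symm_apply, TensorProduct.congr_tmul, LinearEquiv.refl_apply]
    have e1 : ea (1 : (Proj 𝒜).presheaf.stalk x) = germP P W hxW (TwistX.fracSect (φ.res hW)) := by
      show (LinearMap.toSpanSingleton _ _ (fracGen φ hx)) 1 = _
      rw [LinearMap.toSpanSingleton_apply, one_smul, fracGen_eq φ hx W hW hxW]
    rw [e1]
    refine Eq.trans (congrArg _ (ofTensor_germ W hxW _ _)) ?_
    refine (stalkModMap_germ (mulPre m d) W hxW _).trans ?_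
    exact congrArg (germP (DCoh.toP.obj (Twist.twist 𝒜 (m + d))) W hxW) (mulPre_tm m d _ _)
  suffices hb : Function.Bijective (L ∘ E) by
    show Function.Bijective ⇑L
    exact (Function.Bijective.of_comp_iff _ E.bijective).1 hb
  refine ⟨(injective_iff_map_eq_zero (L.comp E.toLinearMap)).2 fun n hn => ?_, fun n => ?_⟩
  · obtain ⟨W₀, hxW₀, s₀, rfl⟩ := exists_germP n
    let W := W₀ ⊓ U
    have hW : W ≤ U := inf_le_right
    have hxW : x ∈ W := ⟨hxW₀, hx⟩
    let i : W ⟶ W₀ := homOfLE inf_le_left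
    rw [← germP_res i hxW s₀] at hn ⊢
    have h0 := (key W hW hxW _).symm.trans hn
    obtain ⟨W', hxW', j, j', hjj⟩ := TopCat.Presheaf.germ_eq (C := AddCommGrpCat.{u})
      (DCoh.toP.obj (Twist.twist 𝒜 (m + d))).presheaf x hxW hxW _ 0
      (h0.trans (map_zero (germP (DCoh.toP.obj (Twist.twist 𝒜 (m + d))) W hxW)).symm)
    have key' : mulSect m d (TwistX.fracSect (φ.res (j.le.trans hW)))
        (res Q j (res Q i s₀)) = 0 :=
      hjj.trans (map_zero _)
    have hzero : mulSect m d (TwistX.fracSect (φ.res (j.le.trans hW)))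
        (0 : Twist.sectN (𝒜 := 𝒜) d (op W')) = 0 :=
      Subtype.ext (funext fun y => Subtype.ext (mul_zero _))
    have := (mulSect_bijective (φ.res (j.le.trans hW)) d).1 (key'.trans hzero.symm)
    rw [← germP_res j hxW']
    exact (congrArg _ this).trans (map_zero _)
  · obtain ⟨W₀, hxW₀, t₀, rfl⟩ := exists_germP n
    let W := W₀ ⊓ U
    have hW : W ≤ U := inf_le_right
    have hxW : x ∈ W := ⟨hxW₀, hx⟩
    let i : W ⟶ W₀ := homOfLE inf_le_left
    obtain ⟨s, hs⟩ := (mulSect_bijective (φ.res hW) d).2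
      (res (DCoh.toP.obj (Twist.twist 𝒜 (m + d))) i t₀)
    refine ⟨germP Q W hxW s, ?_⟩
    refine (key W hW hxW s).trans ?_
    rw [← germP_res i hxW t₀]
    exact congrArg _ hs

omit φ hx in
/-- `O(m) ⊗ O(d) ≅ O(m + d)`, given invertible fractions of degree `m` everywhere. -/
theorem nonempty_tensor_iso
    (h : ∀ x : (Proj 𝒜), ∃ (U : (Proj 𝒜).Opens), x ∈ U ∧ Nonempty (TwistX.UnitFrac (𝒜 := 𝒜) m U))
    (d : ℤ) :
    Nonempty (CohB1.tensorMod (Twist.twist 𝒜 m) (Twist.twist 𝒜 d) ≅ Twist.twist 𝒜 (m + d)) := by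
  haveI : IsIso (mulHom (𝒜 := 𝒜) m d) := by
    apply isIso_of_stalk
    intro x
    obtain ⟨U, hxU, ⟨φ⟩⟩ := h x
    have h : unitShP (DCoh.toP.obj (Twist.twist 𝒜 m) ⊗ DCoh.toP.obj (Twist.twist 𝒜 d)) ≫
        DCoh.toP.map (mulHom (𝒜 := 𝒜) m d) = mulPre m d :=
      ((PresheafOfModules.sheafificationAdjunction (𝟙 (Proj 𝒜).ringCatSheaf.obj)).homEquiv_unit
        (f := mulHom m d)).symm.trans (Equiv.apply_symm_apply _ _)
    haveI : IsIso ((stalkP x).map (DCoh.toP.map (mulHom (𝒜 := 𝒜) m d))) :=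
      @IsIso.of_isIso_fac_left _ _ _ _ _
        ((stalkP x).map (unitShP (DCoh.toP.obj (Twist.twist 𝒜 m) ⊗ DCoh.toP.obj (Twist.twist 𝒜 d))))
        _ ((stalkP x).map (mulPre m d)) (isIso_stalk_unitShP _) (isIso_stalk_mulPre' φ hxU d)
        (((stalkP x).map_comp _ _).symm.trans (congrArg (fun ψ => (stalkP x).map ψ) h))
    exact (NatIso.isIso_map_iff (stalkToPIso x) (mulHom (𝒜 := 𝒜) m d)).2 this
  exact ⟨asIso (mulHom m d)⟩

end Groth.Agent.H9Twist
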